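import Groth.Agent.RedImage.Flat
import Groth.Agent.EtFound.Descent
import Groth.Agent.GrpSchLib.HomFibre

/-!
# Properness of homomorphisms of locally algebraic groups

A quasi-compact homomorphism of group schemes locally of finite type over an artinian local ring is proper as
soon as its kernel is.
-/

universe u

open CategoryTheory Limits AlgebraicGeometry MonoidalCategory CartesianMonoidalCategory MonObj
open Groth.Agent.GrpSchLib

namespace Groth.Agent.RedImage

theorem isProper_of_isProper_ker {k : Type u} [Field k] {G H : Over (Spec (CommRingCat.of k))} [GrpObj G] [GrpObj H]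
    [LocallyOfFiniteType G.hom] [LocallyOfFiniteType H.hom] (u : G ⟶ H) [IsMonHom u] [QuasiCompact u.left]
    [IsProper (pullback.snd u.left η[H].left)] : IsProper u.left := by
  obtain ⟨H', _, i, f, hi, hf, hfi, hci, hker, hqc, hs⟩ := exists_schematicImage u
  haveI : IsSchemeTheoreticallyDominant f.left := ⟨hker⟩
  haveI : LocallyOfFiniteType H'.hom := by rw [← Over.w i]; infer_instance
  haveI : IsSeparated H'.hom :=
    (isSeparated_iff H'.hom).mpr ((GrpSchLib.diagonal_iff_unit @IsClosedImmersion).mpr inferInstance)
  obtain ⟨hfl, -⟩ := flat_surjective_of_dominant f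
  obtain ⟨N, _, j, _, _, _, hk⟩ := exists_kernel f
  obtain ⟨p, hp, hpe⟩ := exists_kernelPair_iso j f hk
  haveI := hp
  haveI : IsProper N.hom := by
    have sq : IsPullback j.left (toUnit N).left f.left η[H'].left := hk.map (Over.forget _)
    haveI : Mono i.left := inferInstance
    have he : η[H'].left ≫ i.left = η[H].left := by rw [← Over.comp_left, IsMonHom.one_hom]
    have hu : f.left ≫ i.left = u.left := by rw [← Over.comp_left, hfi]
    have sq' : IsPullback j.left (toUnit N).left u.left η[H].left := by
      refine IsPullback.mk' ?_ (fun T a b h1 h2 => sq.hom_ext h1 h2) fun T a b h => ?_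
      · rw [← hu, ← he, sq.w_assoc]
      · have hab : a ≫ f.left = b ≫ η[H'].left := by
          rw [← cancel_mono i.left, Category.assoc, Category.assoc, hu, he, h]
        exact ⟨sq.lift a b hab, sq.lift_fst _ _ _, sq.lift_snd _ _ _⟩
    have e : N.hom = sq'.isoPullback.hom ≫ pullback.snd u.left η[H].left := by
      rw [sq'.isoPullback_hom_snd]
      rfl
    rw [e]
    infer_instance
  haveI : IsProper (snd N G).left := inferInstanceAs (IsProper (pullback.snd N.hom G.hom))
  haveI : IsProper (pullback.snd f.left f.left) := by
    rw [← MorphismProperty.cancel_left_of_respectsIso @IsProper p, hpe]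
    infer_instance
  haveI := EtFound.fpqc_isProper.{u}
  haveI : IsProper f.left := MorphismProperty.of_pullback_snd_of_descendsAlong (P := @IsProper)
    (Q := @Surjective ⊓ @Flat ⊓ @QuasiCompact) (f := f.left) (g := f.left)
    ⟨⟨hs, hfl⟩, hqc⟩ ‹_›
  rw [← hfi, Over.comp_left]
  infer_instance

theorem exists_isPullback_ker {A : Type u} [CommRing A] [IsArtinianRing A] [IsLocalRing A]
    {G H : Over (Spec (CommRingCat.of A))} [GrpObj H] (u : G ⟶ H) :
    ∃ l, IsPullback l (pullback.snd ((Over.pullback (clPt A)).map u).left η[clFib H].left)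
      (pullback.snd u.left η[H].left) (clPt A) := by
  let F := Over.pullback (clPt A)
  have sq := HomFibre.map_isPullback u (clPt A)
  have hη : η[clFib H].left ≫ pullback.fst H.hom (clPt A) = clPt A ≫ η[H].left := by
    have h : η[clFib H] = Functor.LaxMonoidal.ε F ≫ F.map η[H] := rfl
    have h1 : (F.map η[H]).left ≫ pullback.fst H.hom (clPt A) =
        pullback.fst (𝟙_ (Over _)).hom (clPt A) ≫ η[H].left := pullback.lift_fst _ _ _
    rw [h, Over.comp_left, Category.assoc, h1, ← Category.assoc]
    congr 1
    have h2 := Over.w (Functor.LaxMonoidal.ε F)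
    show (Functor.LaxMonoidal.ε F).left ≫ pullback.fst (𝟙 _) (clPt A) = _
    rw [← Category.comp_id (pullback.fst (𝟙 _) (clPt A)), pullback.condition, ← Category.assoc]
    erw [h2, Category.id_comp]
  have big := (IsPullback.of_hasPullback (F.map u).left η[clFib H].left).paste_horiz sq
  rw [hη] at big
  let l : pullback (F.map u).left η[clFib H].left ⟶ pullback u.left η[H].left :=
    pullback.lift (pullback.fst (F.map u).left η[clFib H].left ≫ pullback.fst G.hom (clPt A))
      (pullback.snd (F.map u).left η[clFib H].left ≫ clPt A) (by rw [big.w]; exact (Category.assoc _ _ _).symm)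
  have hl1 : l ≫ pullback.fst u.left η[H].left =
      pullback.fst (F.map u).left η[clFib H].left ≫ pullback.fst G.hom (clPt A) := pullback.lift_fst _ _ _
  have hl2 : l ≫ pullback.snd u.left η[H].left = pullback.snd (F.map u).left η[clFib H].left ≫ clPt A :=
    pullback.lift_snd _ _ _
  rw [← hl1] at big
  have inner : IsPullback l (pullback.snd (F.map u).left η[clFib H].left) (pullback.snd u.left η[H].left) (clPt A) :=
    IsPullback.of_right big hl2 (IsPullback.of_hasPullback u.left η[H].left)
  exact ⟨l, inner⟩

theorem isSeparated_artinian {A : Type u} [CommRing A] [IsArtinianRing A] [IsLocalRing A]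
    (G : Over (Spec (CommRingCat.of A))) [GrpObj G] [LocallyOfFiniteType G.hom] : IsSeparated G.hom := by
  refine (isSeparated_iff G.hom).mpr ((GrpSchLib.diagonal_iff_unit @IsClosedImmersion).mpr ?_)
  haveI : LocallyOfFiniteType (clFib G).hom := inferInstanceAs (LocallyOfFiniteType (pullback.snd G.hom _))
  have h : η[G].left ≫ G.hom = 𝟙 _ := Over.w η[G]
  haveI : IsSplitMono η[G].left := IsSplitMono.mk' ⟨G.hom, h⟩
  haveI : IsImmersion (η[G].left ≫ G.hom) := by rw [h]; infer_instance
  haveI : IsImmersion η[G].left := IsImmersion.of_comp η[G].left G.hom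
  refine .of_isPreimmersion _ ?_
  have hr : Set.range η[G].left =
      clHomeo G '' Set.range η[clFib G].left := by
    ext z
    constructor
    · rintro ⟨pt, rfl⟩
      exact ⟨_, ⟨_, rfl⟩, clHomeo_one G pt⟩
    · rintro ⟨_, ⟨q, rfl⟩, rfl⟩
      refine ⟨IsLocalRing.closedPoint A, ?_⟩
      rw [← clHomeo_one G]
      exact congrArg _ (congrArg η[clFib G].left (@Subsingleton.elim (PrimeSpectrum _) inferInstance _ _))
  rw [hr, (clHomeo G).isClosed_image]
  exact η[clFib G].left.isClosedEmbedding.isClosed_range

theorem isProper_of_isProper_ker_artinian {A : Type u} [CommRing A] [IsArtinianRing A] [IsLocalRing A]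
    {G H : Over (Spec (CommRingCat.of A))} [GrpObj G] [GrpObj H]
    [LocallyOfFiniteType G.hom] [LocallyOfFiniteType H.hom] (u : G ⟶ H) [IsMonHom u] [QuasiCompact u.left]
    [IsProper (pullback.snd u.left η[H].left)] : IsProper u.left := by
  let F := Over.pullback (clPt A)
  have sq := HomFibre.map_isPullback u (clPt A)
  haveI : LocallyOfFiniteType (clFib G).hom := inferInstanceAs (LocallyOfFiniteType (pullback.snd G.hom _))
  haveI : LocallyOfFiniteType (clFib H).hom := inferInstanceAs (LocallyOfFiniteType (pullback.snd H.hom _))
  haveI : QuasiCompact (F.map u).left := MorphismProperty.of_isPullback (P := @QuasiCompact) sq ‹_›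
  haveI : IsProper (pullback.snd (F.map u).left η[clFib H].left) := by
    obtain ⟨l, inner⟩ := exists_isPullback_ker u
    exact MorphismProperty.of_isPullback (P := @IsProper) inner ‹_›
  haveI := isProper_of_isProper_ker (F.map u)
  haveI : IsSeparated H.hom := isSeparated_artinian H
  haveI : IsSeparated G.hom := isSeparated_artinian G
  haveI : LocallyOfFiniteType (u.left ≫ H.hom) := by rw [Over.w u]; infer_instance
  haveI : LocallyOfFiniteType u.left := locallyOfFiniteType_of_comp u.left H.hom
  haveI : IsSeparated (u.left ≫ H.hom) := by rw [Over.w u]; infer_instance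
  haveI : IsSeparated u.left := IsSeparated.of_comp u.left H.hom
  haveI : UniversallyClosed (pullback.fst G.hom (clPt A) ≫ u.left) := by
    rw [sq.w]; infer_instance
  haveI : Surjective (pullback.fst G.hom (clPt A)) := inferInstance
  haveI : UniversallyClosed u.left := UniversallyClosed.of_comp_surjective (pullback.fst G.hom (clPt A)) u.left
  exact ⟨⟩

end Groth.Agent.RedImage
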