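import Groth.Agent.RedImage.Basic
import Groth.Agent.GrpSchLib.Affinization
import Groth.Agent.GrpSchLib.AffineHopf
import Groth.Agent.GrpSchLib.HopfGalois
import Groth.Agent.S4103

/-!
# Homomorphisms from algebraic groups to affine groups

Such a homomorphism is faithfully flat onto its schematic image: it factors through the affine hull, and an
injective map of Hopf algebras is faithfully flat.
-/

universe u

open CategoryTheory Limits AlgebraicGeometry MonoidalCategory CartesianMonoidalCategory MonObj
open Groth.Agent.GrpSchLib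
open scoped TensorProduct

namespace Groth.Agent.RedImage

variable {k : Type u} [Field k]

theorem isHopfSubalgebra_range {A B : Type u} [CommRing A] [CommRing B] [HopfAlgebra k A] [HopfAlgebra k B]
    (φ : B →ₐc[k] A) : SGA3.IsHopfSubalgebra k A (φ : B →ₐ[k] A).range := by
  refine ⟨fun b hb => ?_, fun b hb => ?_⟩
  · obtain ⟨x, rfl⟩ := hb
    let r : B →ₗ[k] (φ : B →ₐ[k] A).range := (φ : B →ₐ[k] A).rangeRestrict.toLinearMap
    refine ⟨TensorProduct.map r r (CoalgebraStruct.comul x), ?_⟩
    rw [TensorProduct.map_map]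
    exact CoalgHomClass.map_comp_comul_apply φ x
  · obtain ⟨x, rfl⟩ := hb
    exact ⟨HopfAlgebraStruct.antipode (R := k) x, (GrpSchLib.HopfGalois.antipode_bialgHom φ x).symm⟩

theorem faithfullyFlat_spMap {A B : Type u} [CommRing A] [CommRing B] [HopfAlgebra k A] [HopfAlgebra k B]
    (φ : B →ₐc[k] A) (hφ : Function.Injective φ) :
    (φ : B →ₐ[k] A).toRingHom.FaithfullyFlat := by
  have h := S4103.result k A _ (isHopfSubalgebra_range φ)
  have h1 : (algebraMap (φ : B →ₐ[k] A).range A).FaithfullyFlat := RingHom.faithfullyFlat_algebraMap_iff.mpr h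
  have e : (φ : B →ₐ[k] A).toRingHom = (algebraMap (φ : B →ₐ[k] A).range A).comp
      (AlgEquiv.ofInjective (φ : B →ₐ[k] A) hφ).toRingEquiv.toRingHom := rfl
  rw [e]
  exact RingHom.FaithfullyFlat.stableUnderComposition _ _
    (RingHom.FaithfullyFlat.of_bijective (AlgEquiv.ofInjective (φ : B →ₐ[k] A) hφ).bijective) h1

theorem flat_surjective_of_injective {I C : Over (Spec (CommRingCat.of k))} [GrpObj I] [GrpObj C]
    [IsAffine I.left] [IsAffine C.left] (w : I ⟶ C) [IsMonHom w] (hw : Function.Injective w.left.appTop.hom) :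
    Flat w.left ∧ Surjective w.left := by
  obtain ⟨A, _, _, ⟨eA⟩⟩ := AffineHopf.exists_hopf I
  obtain ⟨B, _, _, ⟨eB⟩⟩ := AffineHopf.exists_hopf C
  let a : AffineHopf.sp k A ≅ I := (Grp.forget _).mapIso eA
  let b : AffineHopf.sp k B ≅ C := (Grp.forget _).mapIso eB
  haveI : IsMonHom a.hom := eA.hom.hom.isMonHom_hom
  haveI : IsMonHom b.inv := eB.inv.hom.isMonHom_hom
  obtain ⟨φ, hφ⟩ := AffineHopf.exists_bialgHom (a.hom ≫ w ≫ b.inv)
  have h1 : Spec.map (CommRingCat.ofHom (φ : B →ₐ[k] A).toRingHom) = a.hom.left ≫ w.left ≫ b.inv.left := by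
    have := congrArg (fun q => q.left) hφ
    exact this.symm
  haveI : IsIso a.hom.left := ((Over.forget _).mapIso a).isIso_hom
  haveI : IsIso b.inv.left := ((Over.forget _).mapIso b).isIso_inv
  have hinj : Function.Injective φ := by
    have h2 := Scheme.ΓSpecIso_inv_naturality (CommRingCat.ofHom (φ : B →ₐ[k] A).toRingHom)
    have h3 : Function.Injective (Spec.map (CommRingCat.ofHom (φ : B →ₐ[k] A).toRingHom)).appTop.hom := by
      rw [h1]
      erw [Scheme.Hom.comp_appTop, Scheme.Hom.comp_appTop]
      haveI : IsIso a.hom.left.appTop := inferInstanceAs (IsIso (Scheme.Γ.map a.hom.left.op))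
      haveI : IsIso b.inv.left.appTop := inferInstanceAs (IsIso (Scheme.Γ.map b.inv.left.op))
      exact (ConcreteCategory.bijective_of_isIso a.hom.left.appTop).1.comp
        (hw.comp (ConcreteCategory.bijective_of_isIso b.inv.left.appTop).1)
    intro x y hxy
    refine (ConcreteCategory.bijective_of_isIso (Scheme.ΓSpecIso (CommRingCat.of B)).inv).1 (h3 ?_)
    have hx := ConcreteCategory.congr_hom h2 x
    have hy := ConcreteCategory.congr_hom h2 y
    simp only [ConcreteCategory.comp_apply] at hx hy
    rw [← hx, ← hy]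
    exact congrArg _ hxy
  have hff := faithfullyFlat_spMap φ hinj
  haveI : Flat (Spec.map (CommRingCat.ofHom (φ : B →ₐ[k] A).toRingHom)) :=
    (HasRingHomProperty.Spec_iff (P := @Flat)).mpr hff.flat
  haveI : Surjective (Spec.map (CommRingCat.ofHom (φ : B →ₐ[k] A).toRingHom)) :=
    ⟨(RingHom.FaithfullyFlat.iff_flat_and_comap_surjective.mp hff).2⟩
  haveI hb2 : IsIso b.hom.left := ((Over.forget _).mapIso b).isIso_hom
  have h4 : w.left = inv a.hom.left ≫ Spec.map (CommRingCat.ofHom (φ : B →ₐ[k] A).toRingHom) ≫ b.hom.left := by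
    rw [h1, IsIso.eq_inv_comp]
    have hh : a.hom.left ≫ w.left ≫ b.inv.left ≫ b.hom.left = a.hom.left ≫ w.left := by
      have h : b.inv.left ≫ b.hom.left = 𝟙 _ := congrArg (fun q => q.left) b.inv_hom_id
      erw [h, Category.comp_id]
    erw [Category.assoc, Category.assoc, hh]
  rw [h4]
  haveI : Flat b.hom.left := MorphismProperty.of_isIso @Flat b.hom.left
  haveI : Surjective b.hom.left := MorphismProperty.of_isIso @Surjective b.hom.left
  exact ⟨MorphismProperty.comp_mem @Flat _ _ (MorphismProperty.of_isIso @Flat _) (MorphismProperty.comp_mem @Flat _ _ ‹_› (MorphismProperty.of_isIso @Flat b.hom.left)),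
    MorphismProperty.comp_mem @Surjective _ _ (MorphismProperty.of_isIso @Surjective _) (MorphismProperty.comp_mem @Surjective _ _ ‹_› (MorphismProperty.of_isIso @Surjective b.hom.left))⟩

theorem exists_factor {G G' : Over (Spec (CommRingCat.of k))} [GrpObj G] [GrpObj G']
    [LocallyOfFiniteType G.hom] [QuasiCompact G.hom] [IsAffine G'.left] (u : G ⟶ G') [IsMonHom u] :
    ∃ (C : Over (Spec (CommRingCat.of k))) (_ : GrpObj C) (p : G ⟶ C) (i : C ⟶ G'), IsMonHom p ∧ IsMonHom i ∧
      p ≫ i = u ∧ Surjective p.left ∧ Flat p.left ∧ IsClosedImmersion i.left ∧ IsAffine C.left ∧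
      (Function.Injective u.left.appTop.hom → IsIso i) := by
  haveI : IsAffineHom G'.hom := isAffineHom_of_isAffine G'.hom
  haveI : QuasiCompact (u.left ≫ G'.hom) := by rw [Over.w u]; infer_instance
  haveI : QuasiCompact u.left := QuasiCompact.of_comp u.left G'.hom
  obtain ⟨C, _, i, f, hi, hf, hfi, hci, hker, hqc, hs⟩ := exists_schematicImage u
  haveI : IsAffine C.left := isAffine_of_isAffineHom i.left
  obtain ⟨I, _, p, hp, hI, hlft, hfl, hps, hb⟩ := Affinization.exists_affinization G
  haveI : IsIso p.left.appTop := (ConcreteCategory.isIso_iff_bijective _).mpr hb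
  let v : I.left ⟶ C.left := I.left.toSpecΓ ≫ Spec.map (f.left.appTop ≫ inv p.left.appTop) ≫ C.left.isoSpec.inv
  have hv : p.left ≫ v = f.left := by
    simp only [v, Spec.map_comp, Category.assoc]
    rw [Scheme.toSpecΓ_naturality_assoc, ← Spec.map_comp_assoc, IsIso.inv_hom_id, Spec.map_id, Category.id_comp,
      ← Scheme.toSpecΓ_naturality_assoc, Scheme.toSpecΓ_isoSpec_inv, Category.comp_id]
  haveI : Epi p.left := Flat.epi_of_flat_of_surjective p.left
  let w : I ⟶ C := Over.homMk v (by rw [← cancel_epi p.left, ← Category.assoc, hv, Over.w f, Over.w p])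
  have hw : p ≫ w = f := Over.OverMorphism.ext hv
  haveI : IsMonHom w := by
    haveI : Epi (p ⊗ₘ p).left := by
      haveI : Flat (p ⊗ₘ p).left := by
        rw [MonoidalCategory.tensorHom_def, Over.comp_left]
        have h1 : Flat (p ▷ G).left := MorphismProperty.of_isPullback (P := @Flat)
          ((FpqcDescLib.isPullback_whiskerRight p G).map (Over.forget _)).flip hfl
        have h2 : Flat (I ◁ p).left := MorphismProperty.of_isPullback (P := @Flat)
          ((FpqcDescLib.isPullback_whiskerLeft p I).map (Over.forget _)).flip hfl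
        infer_instance
      haveI : Surjective (p ⊗ₘ p).left := by
        rw [MonoidalCategory.tensorHom_def, Over.comp_left]
        have h1 : Surjective (p ▷ G).left := MorphismProperty.of_isPullback (P := @Surjective)
          ((FpqcDescLib.isPullback_whiskerRight p G).map (Over.forget _)).flip hps
        have h2 : Surjective (I ◁ p).left := MorphismProperty.of_isPullback (P := @Surjective)
          ((FpqcDescLib.isPullback_whiskerLeft p I).map (Over.forget _)).flip hps
        infer_instance
      exact Flat.epi_of_flat_of_surjective _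
    refine ⟨?_, ?_⟩
    · rw [← IsMonHom.one_hom p, Category.assoc, hw, IsMonHom.one_hom]
    · haveI : Epi (p ⊗ₘ p) := Over.epi_of_epi_left _
      rw [← cancel_epi (p ⊗ₘ p), ← Category.assoc, ← IsMonHom.mul_hom, Category.assoc, hw, IsMonHom.mul_hom,
        ← Category.assoc, tensorHom_comp_tensorHom, hw]
  have hfinj : Function.Injective f.left.appTop.hom := by
    haveI : IsSchemeTheoreticallyDominant f.left := ⟨hker⟩
    exact f.left.app_injective ⊤
  have hwinj : Function.Injective w.left.appTop.hom := by
    intro x y hxy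
    refine hfinj ?_
    rw [← hw, Over.comp_left, Scheme.Hom.comp_appTop]
    exact congrArg p.left.appTop hxy
  obtain ⟨hwf, hws⟩ := flat_surjective_of_injective w hwinj
  refine ⟨C, inferInstance, f, i, inferInstance, inferInstance, hfi, hs, ?_, hci, inferInstance, fun hu => ?_⟩
  · rw [← hw, Over.comp_left]; infer_instance
  · have hbij : Function.Bijective i.left.appTop.hom := by
      refine ⟨fun x y hxy => hu ?_, (IsClosedImmersion.isAffine_surjective_of_isAffine i.left).2⟩
      rw [← hfi, Over.comp_left, Scheme.Hom.comp_appTop]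
      exact congrArg f.left.appTop hxy
    haveI : IsIso i.left.appTop := (ConcreteCategory.isIso_iff_bijective _).mpr hbij
    haveI : IsIso i.left := by
      rw [show i.left = C.left.isoSpec.hom ≫ Spec.map i.left.appTop ≫ G'.left.isoSpec.inv by
        rw [Scheme.isoSpec_inv_naturality, Iso.hom_inv_id_assoc]]
      infer_instance
    haveI : IsIso ((Over.forget _).map i) := ‹IsIso i.left›
    exact isIso_of_reflects_iso i (Over.forget _)

end Groth.Agent.RedImage
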