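import Groth.Agent.GrpSchLib.MonoSubgroup
import Groth.Agent.GrpSchLib.FieldTop
import Groth.Agent.FpqcDescLib.Group
import Groth.Agent.SchTop.Maximal
import Groth.Agent.MorLib.BddFib
import Mathlib.AlgebraicGeometry.Morphisms.SchemeTheoreticallyDominant

/-!
# Schematic images of homomorphisms of arbitrary group schemes over a field

A quasi-compact dominant homomorphism of group schemes over a field is surjective, and the schematic image
of a quasi-compact homomorphism is a closed subgroup scheme.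
-/

universe u

open CategoryTheory CategoryTheory.Limits MonoidalCategory CartesianMonoidalCategory MonObj GrpObj AlgebraicGeometry
open Groth.Agent.GrpSchLib

namespace Groth.Agent.RedImage

set_option backward.isDefEq.respectTransparency.types false

theorem isSchemeTheoreticallyDominant_toImage {X Y : Scheme.{u}} (f : X ⟶ Y) [QuasiCompact f] :
    IsSchemeTheoreticallyDominant f.toImage := by
  refine ⟨Scheme.IdealSheafData.ext (funext fun U => ?_)⟩
  rw [Scheme.IdealSheafData.ideal_bot, Pi.bot_apply, eq_bot_iff]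
  refine (f.toImage.ideal_ker_le U).trans fun s hs => ?_
  rw [Ideal.mem_bot]
  refine TopCat.Presheaf.section_ext f.image.sheaf _ _ _ fun w hw => ?_
  refine Scheme.Hom.stalkFunctor_toImage_injective f w ?_
  erw [TopCat.Presheaf.stalkFunctor_map_germ_apply, TopCat.Presheaf.stalkFunctor_map_germ_apply]
  exact congrArg _ ((RingHom.mem_ker.mp hs).trans (map_zero _).symm)

theorem maxPt_mem_range {X Y : Scheme.{u}} (f : X ⟶ Y) [QuasiCompact f] [IsDominant f] {c : Y}
    (hc : IsMaxPt c) : c ∈ Set.range f := by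
  by_contra hnot
  have hcc : closure ({c} : Set Y) ∈ irreducibleComponents (Y : Type u) := by
    refine ⟨isIrreducible_singleton.closure, fun Z hZ hle => ?_⟩
    have hd := hZ.isGenericPoint_genericPoint_closure
    have : hZ.genericPoint = c :=
      hc _ (hd.specializes (subset_closure (hle (subset_closure rfl))))
    rw [← this, hd.def]
    exact subset_closure
  obtain ⟨V, hcV, hV⟩ := SchTop.exists_open_of_maximal f c hcc hnot
  obtain ⟨x, hx⟩ := f.denseRange.exists_mem_open V.isOpen ⟨c, hcV⟩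
  have : x ∈ f ⁻¹ᵁ V := hx
  rw [hV] at this
  exact this

variable {k : Type u} [Field k] {G H : Over (Spec (CommRingCat.of k))}

theorem flat_hom (X : Over (Spec (CommRingCat.of k))) : Flat X.hom :=
  MorLib.BF.flat_to_field (Field.toIsField k) X.hom

theorem exists_pullback_pt {X Y Z : Scheme.{u}} (f : X ⟶ Z) (g : Y ⟶ Z) {y : Y} (hy : g y ∈ Set.range f) :
    ∃ w : ↥(pullback f g), pullback.snd f g w = y := by
  obtain ⟨x, hx⟩ := hy
  obtain ⟨w, -, hw⟩ := Scheme.Pullback.exists_preimage_pullback (f := f) (g := g) x y hx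
  exact ⟨w, hw⟩

variable [GrpObj G] [GrpObj H]

theorem surjective_of_dominant (f : H ⟶ G) [IsMonHom f] [QuasiCompact f.left] [IsDominant f.left] :
    Surjective f.left := by
  refine ⟨fun x => ?_⟩
  let P : Over (Spec (CommRingCat.of k)) := Over.mk (G.left.fromSpecResidueField x ≫ G.hom)
  let xp : P ⟶ G := Over.homMk (G.left.fromSpecResidueField x) rfl
  let a : G ⊗ P ⟶ G := fst G P
  let q : G ⊗ P ⟶ G := snd G P ≫ xp
  let φ : G ⊗ P ⟶ G ⊗ P := lift (a⁻¹ * q) (snd G P)
  let ψ : G ⊗ P ⟶ G ⊗ P := lift (q * a⁻¹) (snd G P)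
  have hφq : φ ≫ q = q := by simp [φ, q]
  have hψq : ψ ≫ q = q := by simp [ψ, q]
  have hφa : φ ≫ a = a⁻¹ * q := lift_fst _ _
  have hψa : ψ ≫ a = q * a⁻¹ := lift_fst _ _
  have e1 : φ ≫ ψ = 𝟙 _ := by
    apply CartesianMonoidalCategory.hom_ext
    · rw [Category.assoc, Category.id_comp]
      show φ ≫ ψ ≫ a = a
      rw [hψa, MonObj.comp_mul, GrpObj.comp_inv, hφa, hφq, _root_.mul_inv_rev, _root_.inv_inv, mul_inv_cancel_left]
    · simp [φ, ψ]
  have e2 : ψ ≫ φ = 𝟙 _ := by
    apply CartesianMonoidalCategory.hom_ext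
    · rw [Category.assoc, Category.id_comp]
      show ψ ≫ φ ≫ a = a
      rw [hφa, MonObj.comp_mul, GrpObj.comp_inv, hψa, hψq, _root_.mul_inv_rev, _root_.inv_inv,
        inv_mul_cancel_right]
    · simp [φ, ψ]
  haveI : IsIso φ := ⟨ψ, e1, e2⟩
  haveI : IsIso φ.left := (Over.forget _).map_isIso φ
  haveI : Flat a.left := by
    show Flat (pullback.fst G.hom P.hom)
    exact MorphismProperty.pullback_fst _ _ (flat_hom P)
  obtain ⟨w₀, -⟩ : ∃ w : ↥(pullback G.hom P.hom), pullback.fst G.hom P.hom w = x := by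
    obtain ⟨w, hw, -⟩ := Scheme.Pullback.exists_preimage_pullback (f := G.hom) (g := P.hom) x
      (IsLocalRing.closedPoint (G.left.residueField x))
      (@Subsingleton.elim ↥(Spec (CommRingCat.of k)) inferInstance _ _)
    exact ⟨w, hw⟩
  obtain ⟨y, hy, -⟩ := exists_isMaxPt (X := ↥(G ⊗ P).left) w₀
  have hy₁ : a.left y ∈ Set.range f.left := maxPt_mem_range f.left (hy.map (Flat.generalizingMap a.left))
  have hy₂ : (φ ≫ a).left y ∈ Set.range f.left := by
    haveI : Flat (φ ≫ a).left := by rw [Over.comp_left]; infer_instance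
    exact maxPt_mem_range f.left (hy.map (Flat.generalizingMap (φ ≫ a).left))
  let Q : Over (Spec (CommRingCat.of k)) := Over.mk ((G ⊗ P).left.fromSpecResidueField y ≫ (G ⊗ P).hom)
  let pT : Q ⟶ G ⊗ P := Over.homMk ((G ⊗ P).left.fromSpecResidueField y) rfl
  let y₀ : Q.left := IsLocalRing.closedPoint ((G ⊗ P).left.residueField y)
  have hy₀ : pT.left y₀ = y := Scheme.fromSpecResidueField_apply y _
  obtain ⟨z₁, hz₁⟩ := exists_pullback_pt f.left (pT ≫ a).left (y := y₀)
    (by rw [Over.comp_left, Scheme.Hom.comp_apply, hy₀]; exact hy₁)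
  obtain ⟨z₂, hz₂⟩ := exists_pullback_pt f.left (pT ≫ φ ≫ a).left (y := y₀)
    (by rw [Over.comp_left, Scheme.Hom.comp_apply, hy₀]; exact hy₂)
  obtain ⟨w, hw, -⟩ := Scheme.Pullback.exists_preimage_pullback
    (f := pullback.snd f.left (pT ≫ a).left) (g := pullback.snd f.left (pT ≫ φ ≫ a).left) z₁ z₂
    (hz₁.trans hz₂.symm)
  let π₁ := pullback.fst (pullback.snd f.left (pT ≫ a).left) (pullback.snd f.left (pT ≫ φ ≫ a).left)
  let π₂ := pullback.snd (pullback.snd f.left (pT ≫ a).left) (pullback.snd f.left (pT ≫ φ ≫ a).left)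
  let R : Over (Spec (CommRingCat.of k)) := Over.mk (π₁ ≫ pullback.snd f.left (pT ≫ a).left ≫ Q.hom)
  let r : R ⟶ Q := Over.homMk (π₁ ≫ pullback.snd f.left (pT ≫ a).left) (Category.assoc _ _ _)
  let h₁ : R ⟶ H := Over.homMk (π₁ ≫ pullback.fst f.left (pT ≫ a).left) (by
    show (π₁ ≫ pullback.fst f.left (pT ≫ a).left) ≫ H.hom = π₁ ≫ pullback.snd f.left (pT ≫ a).left ≫ Q.hom
    rw [← Over.w f, Category.assoc, pullback.condition_assoc, Over.w (pT ≫ a)])
  let h₂ : R ⟶ H := Over.homMk (π₂ ≫ pullback.fst f.left (pT ≫ φ ≫ a).left) (by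
    show (π₂ ≫ pullback.fst f.left (pT ≫ φ ≫ a).left) ≫ H.hom = π₁ ≫ pullback.snd f.left (pT ≫ a).left ≫ Q.hom
    rw [← Over.w f, Category.assoc, pullback.condition_assoc, Over.w (pT ≫ φ ≫ a)]
    exact (pullback.condition_assoc _).symm)
  have e₁ : h₁ ≫ f = r ≫ pT ≫ a := by
    apply Over.OverMorphism.ext
    show (π₁ ≫ pullback.fst f.left (pT ≫ a).left) ≫ f.left = (π₁ ≫ pullback.snd f.left (pT ≫ a).left) ≫ (pT ≫ a).left
    rw [Category.assoc, pullback.condition, Category.assoc]
  have e₂ : h₂ ≫ f = r ≫ pT ≫ φ ≫ a := by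
    apply Over.OverMorphism.ext
    show (π₂ ≫ pullback.fst f.left (pT ≫ φ ≫ a).left) ≫ f.left =
      (π₁ ≫ pullback.snd f.left (pT ≫ a).left) ≫ (pT ≫ φ ≫ a).left
    rw [Category.assoc, pullback.condition]
    simp only [π₁, π₂, pullback.condition_assoc, Category.assoc]
  have e : (h₁ * h₂) ≫ f = r ≫ pT ≫ q := by
    rw [MonObj.mul_comp, e₁, e₂, hφa, ← MonObj.comp_mul, ← MonObj.comp_mul, mul_inv_cancel_left]
  refine ⟨(h₁ * h₂).left w, ?_⟩
  have := congrArg (fun m : R ⟶ G => m.left w) e
  simp only [Over.comp_left, Scheme.Hom.comp_apply, q] at this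
  rw [this]
  exact Scheme.fromSpecResidueField_apply x _

omit [GrpObj G] [GrpObj H] in
theorem desc_closed {A B Y Z : Over (Spec (CommRingCat.of k))} (d : A ⟶ B)
    [IsSchemeTheoreticallyDominant d.left] (i : Y ⟶ Z) [IsClosedImmersion i.left] (g : B ⟶ Z) (a : A ⟶ Y)
    (h : d ≫ g = a ≫ i) : ∃ b : B ⟶ Y, b ≫ i = g := by
  have hk : i.left.ker ≤ g.left.ker := by
    have h1 : (d.left ≫ g.left).ker = g.left.ker := by
      rw [Scheme.Hom.ker_comp, d.left.ker_eq_bot, Scheme.IdealSheafData.map_bot]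
    rw [← h1, ← Over.comp_left, h, Over.comp_left]
    exact Scheme.Hom.le_ker_comp _ _
  refine ⟨Over.homMk (IsClosedImmersion.lift i.left g.left hk) ?_, ?_⟩
  · rw [← Over.w i, IsClosedImmersion.lift_fac_assoc, Over.w g]
  · exact Over.OverMorphism.ext (IsClosedImmersion.lift_fac _ _ hk)

omit [GrpObj G] [GrpObj H] in
theorem dominant_whiskerRight {A B : Over (Spec (CommRingCat.of k))} (d : A ⟶ B)
    [IsSchemeTheoreticallyDominant d.left] [QuasiCompact d.left] (X : Over (Spec (CommRingCat.of k))) :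
    IsSchemeTheoreticallyDominant (d ▷ X).left := by
  have : Flat (fst B X).left := by
    show Flat (pullback.fst B.hom X.hom)
    exact MorphismProperty.pullback_fst _ _ (flat_hom X)
  exact @IsSchemeTheoreticallyDominant.of_isPullback _ _ _ _ d.left (fst B X).left _ _
    ((FpqcDescLib.isPullback_whiskerRight d X).map (Over.forget _)).flip _ _ _

omit [GrpObj G] [GrpObj H] in
theorem dominant_whiskerLeft {A B : Over (Spec (CommRingCat.of k))} (d : A ⟶ B)
    [IsSchemeTheoreticallyDominant d.left] [QuasiCompact d.left] (X : Over (Spec (CommRingCat.of k))) :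
    IsSchemeTheoreticallyDominant (X ◁ d).left := by
  have : Flat (snd X B).left := by
    show Flat (pullback.snd X.hom B.hom)
    exact MorphismProperty.pullback_snd _ _ (flat_hom X)
  exact @IsSchemeTheoreticallyDominant.of_isPullback _ _ _ _ d.left (snd X B).left _ _
    ((FpqcDescLib.isPullback_whiskerLeft d X).map (Over.forget _)).flip _ _ _

theorem exists_schematicImage (f : H ⟶ G) [IsMonHom f] [QuasiCompact f.left] :
    ∃ (H' : Over (Spec (CommRingCat.of k))) (_ : GrpObj H') (i : H' ⟶ G) (f' : H ⟶ H'),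
      IsMonHom i ∧ IsMonHom f' ∧ f' ≫ i = f ∧ IsClosedImmersion i.left ∧
      f'.left.ker = ⊥ ∧ QuasiCompact f'.left ∧ Surjective f'.left := by
  let I : Over (Spec (CommRingCat.of k)) := Over.mk (f.left.imageι ≫ G.hom)
  let i : I ⟶ G := Over.homMk f.left.imageι rfl
  let f' : H ⟶ I := Over.homMk f.left.toImage (by
    show f.left.toImage ≫ f.left.imageι ≫ G.hom = H.hom
    rw [Scheme.Hom.toImage_imageι_assoc, Over.w f])
  have hf : f' ≫ i = f := Over.OverMorphism.ext f.left.toImage_imageι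
  haveI hci : IsClosedImmersion i.left := show IsClosedImmersion f.left.imageι from inferInstance
  haveI : QuasiCompact f'.left := by
    have : QuasiCompact (f'.left ≫ i.left) := by rw [← Over.comp_left, hf]; infer_instance
    exact QuasiCompact.of_comp f'.left i.left
  haveI hd : IsSchemeTheoreticallyDominant f'.left := isSchemeTheoreticallyDominant_toImage f.left
  haveI : Mono i := (Over.forget _).mono_of_mono_map (show Mono i.left from inferInstance)
  haveI := dominant_whiskerRight f' H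
  haveI := dominant_whiskerLeft f' I
  haveI : IsSchemeTheoreticallyDominant (f' ▷ H ≫ I ◁ f').left := by rw [Over.comp_left]; infer_instance
  obtain ⟨μ', hμ'⟩ := desc_closed (f' ▷ H ≫ I ◁ f') i ((fst I I ≫ i) * (snd I I ≫ i)) (μ[H] ≫ f') (by
    rw [Category.assoc μ[H], hf, IsMonHom.mul_hom, MonObj.comp_mul]
    simp only [Category.assoc, whiskerLeft_fst_assoc, whiskerRight_fst_assoc, whiskerLeft_snd_assoc,
      whiskerRight_snd_assoc, hf]
    rw [Hom.mul_def]
    congr 1)
  obtain ⟨ι', hι'⟩ := desc_closed f' i i⁻¹ (GrpObj.inv ≫ f') (by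
    rw [GrpObj.comp_inv, hf, Category.assoc, hf, GrpObj.inv_hom, Hom.inv_def])
  obtain ⟨str, hstr⟩ := exists_grpObj_of_mono i (η[H] ≫ f') (by rw [Category.assoc, hf, IsMonHom.one_hom])
    μ' hμ' ι' hι'
  letI := str
  haveI := hstr
  haveI : IsMonHom f' :=
    { one_hom := by rw [← cancel_mono i, Category.assoc, hf, IsMonHom.one_hom, IsMonHom.one_hom]
      mul_hom := by
        rw [← cancel_mono i, Category.assoc, hf, IsMonHom.mul_hom, Category.assoc, IsMonHom.mul_hom,
          ← Category.assoc, tensorHom_comp_tensorHom, hf] }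
  exact ⟨I, str, i, f', inferInstance, inferInstance, hf, hci, hd.ker_eq_bot, inferInstance,
    surjective_of_dominant f'⟩

end Groth.Agent.RedImage
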