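import Groth.Agent.RedImage.Basic
import Groth.Agent.GrpSchLib.ImageFlat
import Groth.Agent.GrpSchLib.ArtinTop

/-!
# Quasi-compact homomorphisms of locally algebraic groups onto their schematic image

A quasi-compact scheme-theoretically dominant homomorphism of group schemes locally of finite type over a field is
faithfully flat, so it is proper as soon as its kernel is.
-/

universe u

open CategoryTheory Limits AlgebraicGeometry MonoidalCategory CartesianMonoidalCategory MonObj
open Groth.Agent.GrpSchLib
open scoped TensorProduct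

namespace Groth.Agent.RedImage

variable {k : Type u} [Field k] {G H : Over (Spec (CommRingCat.of k))} [GrpObj G] [GrpObj H]
  [LocallyOfFiniteType G.hom] [LocallyOfFiniteType H.hom]

/-- A quasi-compact scheme-theoretically dominant homomorphism of locally algebraic groups is faithfully flat. -/
theorem flat_surjective_of_dominant (f : G ⟶ H) [IsMonHom f] [QuasiCompact f.left]
    [IsSchemeTheoreticallyDominant f.left] : Flat f.left ∧ Surjective f.left := by
  classical
  haveI : IsSeparated H.hom :=
    (isSeparated_iff H.hom).mpr ((GrpSchLib.diagonal_iff_unit @IsClosedImmersion).mpr inferInstance)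
  haveI : LocallyOfFiniteType (f.left ≫ H.hom) := by rw [Over.w f]; infer_instance
  haveI : LocallyOfFiniteType f.left := locallyOfFiniteType_of_comp f.left H.hom
  haveI : Surjective f.left := RedImage.surjective_of_dominant f
  refine ⟨?_, inferInstance⟩
  haveI : IsLocallyNoetherian H.left := LocallyOfFiniteType.isLocallyNoetherian H.hom
  obtain ⟨ξ, hξ, -⟩ := exists_isMaxPt (η[H].left (IsLocalRing.closedPoint k))
  let A := H.left.presheaf.stalk ξ
  haveI : IsArtinianRing A := H9Misc.RatFunLib.isArtinianRing_stalk ξ hξ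
  let ιξ := H.left.fromSpecStalk ξ
  haveI : Flat ιξ := flat_fromSpecStalk ξ
  haveI : CompactSpace ↥(pullback f.left ιξ) :=
    (quasiCompact_iff_compactSpace (pullback.snd f.left ιξ ≫ 𝟙 _)).mp inferInstance
  let 𝒰 := (pullback f.left ιξ).affineCover.finiteSubcover
  let C := ∐ 𝒰.X
  haveI : ∀ i, IsAffine (𝒰.X i) := fun i => inferInstanceAs (IsAffine ((pullback f.left ιξ).affineCover.X _))
  haveI : IsAffine C := inferInstance
  let π : Spec Γ(C, ⊤) ⟶ pullback f.left ιξ := C.isoSpec.inv ≫ Sigma.desc 𝒰.f
  haveI := GrpSchLib.ImageFlat.surjective_sigmaDesc 𝒰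
  haveI := GrpSchLib.ImageFlat.flat_sigmaDesc 𝒰
  haveI : Flat π := inferInstance
  haveI : Surjective π := inferInstance
  let a : Spec Γ(C, ⊤) ⟶ G.left := π ≫ pullback.fst f.left ιξ
  let v : Spec Γ(C, ⊤) ⟶ Spec A := π ≫ pullback.snd f.left ιξ
  have hva : v ≫ ιξ = a ≫ f.left := by simp only [v, a, Category.assoc, pullback.condition]
  haveI : Flat a := inferInstance
  obtain ⟨φ, hφ⟩ : ∃ φ : A ⟶ Γ(C, ⊤), Spec.map φ = v := ⟨_, Spec.map_preimage v⟩
  have hinj : Function.Injective φ.hom := by
    haveI : IsIso C.isoSpec.inv.appTop := inferInstanceAs (IsIso (Scheme.Γ.map C.isoSpec.inv.op))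
    have h1 : Function.Injective π.appTop := by
      rw [Scheme.Hom.comp_appTop]
      exact (ConcreteCategory.bijective_of_isIso C.isoSpec.inv.appTop).1.comp (GrpSchLib.ImageFlat.appTop_injective_sigmaDesc 𝒰)
    have h2 : Function.Injective v.appTop := by
      rw [Scheme.Hom.comp_appTop]
      exact h1.comp ((pullback.snd f.left ιξ).app_injective ⊤)
    have h3 : φ ≫ (Scheme.ΓSpecIso _).inv = (Scheme.ΓSpecIso A).inv ≫ v.appTop := by
      rw [← hφ]; exact Scheme.ΓSpecIso_inv_naturality φ
    intro x y hxy
    refine (ConcreteCategory.bijective_of_isIso (Scheme.ΓSpecIso A).inv).1 (h2 ?_)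
    have hx := ConcreteCategory.congr_hom h3 x
    have hy := ConcreteCategory.congr_hom h3 y
    simp only [ConcreteCategory.comp_apply] at hx hy
    rw [← hx, ← hy]
    exact congrArg _ hxy
  have hfl : Flat v := by
    rw [← hφ]
    refine GrpSchLib.ImageFlat.flat_of_pullback φ hinj ?_
    rw [hφ]
    obtain ⟨N, _, i, hi, _, _, hker⟩ := exists_kernel f
    obtain ⟨p, hp, hpe⟩ := exists_kernelPair_iso i f hker
    haveI : Flat (pullback.snd f.left f.left) := by
      rw [← MorphismProperty.cancel_left_of_respectsIso @Flat p, hpe]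
      exact inferInstanceAs (Flat (pullback.snd N.hom G.hom))
    haveI : Flat (pullback.fst f.left f.left) := by
      rw [← pullbackSymmetry_hom_comp_snd]; infer_instance
    haveI : Flat (pullback.fst (a ≫ f.left) f.left) := by
      rw [← pullbackRightPullbackFstIso_inv_fst]; infer_instance
    haveI : Flat (pullback.snd f.left (a ≫ f.left)) := by
      rw [← pullbackSymmetry_hom_comp_fst]; infer_instance
    haveI : Flat (pullback.snd (a ≫ f.left) (a ≫ f.left)) := by
      rw [← pullbackRightPullbackFstIso_inv_snd_snd f.left (a ≫ f.left) a]; infer_instance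
    haveI : Flat (pullback.fst (a ≫ f.left) (a ≫ f.left)) := by
      rw [← pullbackSymmetry_hom_comp_snd]; infer_instance
    have hk : IsKernelPair (v ≫ ιξ) (pullback.fst v v) (pullback.snd v v) := IsKernelPair.comp_of_mono (IsPullback.of_hasPullback v v)
    rw [hva] at hk
    rw [← hk.isoPullback_hom_fst]
    infer_instance
  haveI : Nontrivial Γ(C, ⊤) := hinj.nontrivial
  obtain ⟨b⟩ : Nonempty ↥(Spec Γ(C, ⊤)) := inferInstance
  have h4 : ((a ≫ f.left).stalkMap b).hom.Flat := by
    have : Flat (a ≫ f.left) := by rw [← hva]; infer_instance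
    exact Flat.stalkMap (a ≫ f.left) b
  rw [Scheme.Hom.stalkMap_comp] at h4
  refine S5336.result k G H f ⟨a b, ?_⟩
  exact Triage.CMMor.flat_of_comp (f.left.stalkMap (a b)).hom (a.stalkMap b).hom (Flat.stalkMap a b) h4

end Groth.Agent.RedImage
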