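import Groth.Agent.RedImage.Proper
import Groth.Agent.FibDim.BaseField
import Groth.Agent.FlatMisc.FlatDims
import Groth.Agent.GrpSchLib.FieldDim
import Groth.Agent.GrpSchLib.HomClosedRange

/-!
# The dimension formula for homomorphisms of locally algebraic groups
-/

universe u

open CategoryTheory Limits AlgebraicGeometry MonoidalCategory CartesianMonoidalCategory MonObj
open Groth.Agent.GrpSchLib

namespace Groth.Agent.RedImage

theorem dim_formula {k : Type u} [Field k] {G H : Over (Spec (CommRingCat.of k))} [GrpObj G] [GrpObj H]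
    [LocallyOfFiniteType G.hom] [LocallyOfFiniteType H.hom] (u : G ⟶ H) [IsMonHom u] [QuasiCompact u.left] :
    topologicalKrullDim G.left =
      topologicalKrullDim (Set.range u.left) + topologicalKrullDim ↥(pullback u.left η[H].left) := by
  obtain ⟨H', _, i, f, hi, hf, hfi, hci, hker, hqc, hs⟩ := exists_schematicImage u
  haveI : IsSchemeTheoreticallyDominant f.left := ⟨hker⟩
  haveI : LocallyOfFiniteType H'.hom := by rw [← Over.w i]; infer_instance
  haveI : IsSeparated H'.hom :=
    (isSeparated_iff H'.hom).mpr ((GrpSchLib.diagonal_iff_unit @IsClosedImmersion).mpr inferInstance)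
  haveI : LocallyOfFiniteType f.left := FlatDims.locallyOfFiniteType_of_comp' G.hom H'.hom f.left (Over.w f)
  obtain ⟨hfl, -⟩ := flat_surjective_of_dominant f
  have hu : f.left ≫ i.left = u.left := by rw [← Over.comp_left, hfi]
  have hR : topologicalKrullDim (Set.range u.left) = topologicalKrullDim H'.left := by
    have hr : Set.range u.left = Set.range i.left := by
      rw [← hu]
      show Set.range (i.left ∘ f.left) = _
      exact hs.surj.range_comp _
    rw [hr]
    exact (IsHomeomorph.topologicalKrullDim_eq _ i.left.isEmbedding.toHomeomorph.isHomeomorph).symm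
  obtain ⟨N, _, j, _, _, _, hk⟩ := exists_kernel f
  have hN : topologicalKrullDim N.left = topologicalKrullDim ↥(pullback u.left η[H].left) := by
    have sq : IsPullback j.left (toUnit N).left f.left η[H'].left := hk.map (Over.forget _)
    haveI : Mono i.left := inferInstance
    have he : η[H'].left ≫ i.left = η[H].left := by rw [← Over.comp_left, IsMonHom.one_hom]
    have sq' : IsPullback j.left (toUnit N).left u.left η[H].left := by
      refine IsPullback.mk' ?_ (fun T a b h1 h2 => sq.hom_ext h1 h2) fun T a b h => ?_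
      · rw [← hu, ← he, sq.w_assoc]
      · have hab : a ≫ f.left = b ≫ η[H'].left := by
          rw [← cancel_mono i.left, Category.assoc, Category.assoc, hu, he, h]
        exact ⟨sq.lift a b hab, sq.lift_fst _ _ _, sq.lift_snd _ _ _⟩
    exact IsHomeomorph.topologicalKrullDim_eq _ sq'.isoPullback.hom.homeomorph.isHomeomorph
  haveI : LocallyOfFiniteType N.hom := by rw [← Over.w j]; infer_instance
  rw [hR, ← hN]
  obtain ⟨p, hp, hpe⟩ := exists_kernelPair_iso j f hk
  haveI := hp
  -- the projection `N × G → G` is the base change of `f` along itself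
  have sqK : IsPullback (p ≫ pullback.fst f.left f.left) (snd N G).left f.left f.left :=
    (IsPullback.of_hasPullback f.left f.left).of_iso (asIso p).symm (Iso.refl _) (Iso.refl _) (Iso.refl _)
      (by simp) (by simp [← hpe]) (by simp) (by simp)
  have sqN : IsPullback (fst N G).left (snd N G).left N.hom G.hom := IsPullback.of_hasPullback N.hom G.hom
  haveI : LocallyOfFiniteType (snd N G).left := inferInstanceAs (LocallyOfFiniteType (pullback.snd N.hom G.hom))
  haveI : Subsingleton ↥(Spec (CommRingCat.of k)) := FibDim.subsingleton_spec_field k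
  have hub : ∀ x : G.left, ((FibDim.rd f.left x : ℕ∞) : WithBot ℕ∞) ≤ topologicalKrullDim N.left := by
    intro x
    obtain ⟨z, hz1, -, hz3⟩ := FibDim.exists_rd_baseChange_eq sqK x x rfl
    rw [FibDim.topologicalKrullDim_eq_iSup_rd N.hom, ← hz3]
    exact le_iSup_of_le ((fst N G).left z) (by exact_mod_cast FibDim.rd_baseChange_le sqN z)
  have hlb : ∀ (g : G.left) (n : N.left), ∃ x, f.left x = f.left g ∧ FibDim.rd N.hom n ≤ FibDim.rd f.left x := by
    intro g n
    obtain ⟨z, -, hz2, hz3⟩ := FibDim.exists_rd_baseChange_eq sqN n g (Subsingleton.elim _ _)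
    refine ⟨(p ≫ pullback.fst f.left f.left) z, ?_, ?_⟩
    · rw [← Scheme.Hom.comp_apply, sqK.w, Scheme.Hom.comp_apply, hz2]
    · rw [← hz3]
      exact FibDim.rd_baseChange_le sqK z
  have hdeg := FlatDims.deg_eq G.hom H'.hom f.left (Over.w f)
  obtain ⟨ξ, hξ, -⟩ := exists_isMaxPt (η[H'].left (IsLocalRing.closedPoint k))
  obtain ⟨ν, hν, -⟩ := exists_isMaxPt (η[N].left (IsLocalRing.closedPoint k))
  have hH := GrpSchLib.topologicalKrullDim_eq_deg hξ
  obtain ⟨g, hg⟩ := hs.surj ξ
  have hNle : ∀ n : N.left, ∃ x, f.left x = ξ ∧ FibDim.rd N.hom n ≤ FibDim.rd f.left x := fun n => hg ▸ hlb g n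
  have hNn : topologicalKrullDim N.left = ((VarDim.deg N.hom ν : ℕ∞) : WithBot ℕ∞) :=
    GrpSchLib.topologicalKrullDim_eq_deg hν
  obtain ⟨n, hn⟩ : ∃ n : N.left, FibDim.rd N.hom n = VarDim.deg N.hom ν := by
    refine ⟨ν, ?_⟩
    have h1 := FibDim.topologicalKrullDim_closure N.hom ν
    rw [VarDim.topologicalKrullDim_closure_singleton N.hom] at h1
    exact_mod_cast h1.symm
  refine le_antisymm ?_ ?_
  · rw [VarDim.topologicalKrullDim_eq_iSup_deg G.hom]
    refine iSup_le fun x => ?_
    rw [hdeg x, Nat.cast_add, WithBot.coe_add]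
    refine add_le_add ?_ (hub x)
    rw [VarDim.topologicalKrullDim_eq_iSup_deg H'.hom]
    exact le_iSup (fun y => ((VarDim.deg H'.hom y : ℕ∞) : WithBot ℕ∞)) (f.left x)
  · obtain ⟨x, hx, hxr⟩ := hNle n
    rw [hH, hNn, ← WithBot.coe_add, ← Nat.cast_add]
    refine le_trans ?_ (le_trans (le_iSup (fun y => ((VarDim.deg G.hom y : ℕ∞) : WithBot ℕ∞)) x)
      (VarDim.topologicalKrullDim_eq_iSup_deg G.hom).ge)
    rw [hdeg x, hx, ← hn]
    exact_mod_cast Nat.add_le_add_left hxr _

theorem isClosed_range_and_dim_artinian {A : Type u} [CommRing A] [IsArtinianRing A] [IsLocalRing A]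
    {G H : Over (Spec (CommRingCat.of A))} [GrpObj G] [GrpObj H]
    [LocallyOfFiniteType G.hom] [LocallyOfFiniteType H.hom] (u : G ⟶ H) [IsMonHom u] [QuasiCompact u.left] :
    IsClosed (Set.range u.left) ∧ topologicalKrullDim G.left =
      topologicalKrullDim (Set.range u.left) + topologicalKrullDim ↥(pullback u.left η[H].left) := by
  let F := Over.pullback (clPt A)
  have sq := HomFibre.map_isPullback u (clPt A)
  haveI : LocallyOfFiniteType (clFib G).hom := inferInstanceAs (LocallyOfFiniteType (pullback.snd G.hom _))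
  haveI : LocallyOfFiniteType (clFib H).hom := inferInstanceAs (LocallyOfFiniteType (pullback.snd H.hom _))
  haveI : QuasiCompact (F.map u).left := MorphismProperty.of_isPullback (P := @QuasiCompact) sq ‹_›
  have hr : clHomeo H '' Set.range (F.map u).left = Set.range u.left := by
    ext z
    constructor
    · rintro ⟨_, ⟨t, rfl⟩, rfl⟩
      exact ⟨clHomeo G t, (map_clFib_apply H u t).symm⟩
    · rintro ⟨t, rfl⟩
      refine ⟨_, ⟨(clHomeo G).symm t, rfl⟩, ?_⟩
      rw [map_clFib_apply, Homeomorph.apply_symm_apply]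
  obtain ⟨l, hl⟩ : ∃ l : pullback (F.map u).left η[clFib H].left ≅ pullback (pullback.snd u.left η[H].left) (clPt A),
      True := by
    obtain ⟨l, inner⟩ := exists_isPullback_ker u
    exact ⟨inner.isoPullback, trivial⟩
  have hker : topologicalKrullDim ↥(pullback (F.map u).left η[clFib H].left) =
      topologicalKrullDim ↥(pullback u.left η[H].left) := by
    refine (IsHomeomorph.topologicalKrullDim_eq _ l.hom.homeomorph.isHomeomorph).trans ?_
    exact IsHomeomorph.topologicalKrullDim_eq _
      (clHomeo (Over.mk (pullback.snd u.left η[H].left))).isHomeomorph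
  refine ⟨hr ▸ (clHomeo H).isClosed_image.mpr (HomClosedRange.isClosed_range (F.map u)), ?_⟩
  rw [← IsHomeomorph.topologicalKrullDim_eq _ (clHomeo G).isHomeomorph, dim_formula (F.map u), hker,
    IsHomeomorph.topologicalKrullDim_eq _ ((clHomeo H).image (Set.range (F.map u).left)).isHomeomorph, hr]

end Groth.Agent.RedImage
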